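import Cfsg.Agent.U62Rec.Check.NatI
import Cfsg.Agent.U62Rec.PointsInvol
import Cfsg.Agent.U62Rec.Main

/-!
# The transvections of a configuration (NatI)

The lists are produced by computation and checked here.
-/

set_option autoImplicit false
set_option maxRecDepth 65536
set_option maxHeartbeats 4000000

namespace Cfsg.Agent.U62Rec.NatI

def pts : List (ℕ × List ℕ) := [(2310487621341807105, [0, 80, 160, 240]), (1166643959611785729, [0, 112, 144,
  224]), (3467842906587660801, [0, 96, 176, 208]), (577621907453510145, [0, 68, 136, 204]),
  (2250328183723358436, [0, 122, 159, 229]), (291643332193419777, [0, 76, 132, 200]), (4189831786691410020,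
  [0, 101, 186, 223]), (866978182446711297, [0, 72, 140, 196]), (2675003282100975780, [0, 95, 165, 250]),
  (144431916278644800, [0, 65, 130, 195]), (9241395249175069185, [0, 20, 40, 60]), (3976202149728316632, [0,
  110, 183, 217]), (2177991309420371064, [0, 121, 158, 231]), (1960980687124329708, [0, 118, 155, 237]),
  (4551532585038211284, [0, 106, 191, 213]), (3832369540452440244, [0, 111, 181, 218]), (72937272194154624,
  [0, 67, 129, 194]), (9241390885757780481, [0, 28, 36, 56]), (3321842645721132120, [0, 89, 174, 247]),
  (4118339337318554808, [0, 103, 185, 222]), (3903861989825492076, [0, 109, 182, 219]), (3032481955784534100,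
  [0, 85, 170, 255]), (1531165074709932180, [0, 127, 149, 234]), (3394182818558990580, [0, 90, 175, 245]),
  (216770985293267136, [0, 66, 131, 193]), (9241399664135111169, [0, 24, 44, 52]), (1817148064913419416, [0,
  119, 153, 238]), (2818839189911723256, [0, 94, 167, 249]), (3250346910748439724, [0, 91, 173, 246]),
  (1888643812821145716, [0, 117, 154, 239]), (9241388638816968720, [0, 17, 34, 51]), (4407699975762531516, [0,
  107, 189, 214]), (2106495561562776732, [0, 123, 157, 230]), (4479192425085254760, [0, 105, 190, 215]),
  (1674997696870710504, [0, 126, 151, 233]), (4262171946644563164, [0, 102, 187, 221]), (9241387547895279648,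
  [0, 19, 33, 50]), (3104822128622589180, [0, 86, 171, 253]), (9241389742623559728, [0, 18, 35, 49]),
  (2960986220761709736, [0, 87, 169, 254]), (2746499017123996764, [0, 93, 166, 251]), (1602660822617855100,
  [0, 125, 150, 235]), (9241421688506287116, [0, 6, 11, 13]), (9241421688489445380, [0, 5, 10, 15]),
  (9241421688472800264, [0, 7, 9, 14])]

def shapes : List (ℕ × List (List ℕ)) := [(2310487621341807105, []), (2310487621240948740, [])]

theorem sides_ok : sidesOK [(oc0, row0), (oc1, row1)] = true := by decide +kernel

theorem pts_ok : pointsOK gens ginv ct0 2310487621341807105 pts = true := by decide +kernel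

theorem shapes_ok : involOK gens lin pts shapes = true := by decide +kernel

theorem pts_mem : ∀ p ∈ pts, ∀ v < 256, app p.1 v ^^^ v ∈ p.2 := by decide +kernel

theorem cs_eq : shapes.map (·.1) = ([(oc0, row0), (oc1, row1)] : List Out).map (fun o => o.1.c) := by
  decide +kernel

theorem natCfg : NatCfg ⟨gens, lin⟩ [(oc0, row0), (oc1, row1)] 2310487621341807105 (pts.map (·.1)) where
  facts := facts
  sides := sides_ok
  kind := by decide +kernel
  only := by decide +kernel
  pts := points_of_ok pts_ok

/-- The result for this configuration. -/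
theorem main {G : Type*} [Group G] [Finite G] {z : G} (M : Mod ⟨gens, lin⟩ z)
    (hb : Nat.card ↥(Subgroup.centralizer ({z} : Set G)) ≤ 512 * 51840)
    (ho : (∃ p ∈ shapes, p.2.length = gens.length) →
      Nat.card ↥(Subgroup.centralizer ({z} : Set G)) ≠ 512 * 25920)
    {F : Type*} [Field F] [Fintype F] (hF : Fintype.card F = 4) :
    Subgroup.centralizer ({z} : Set G) ⊔ Cfsg.oddCore G = ⊤ ∨
      ∃ G₀ : Subgroup G, G₀.Normal ∧ Nonempty (↥G₀ ≃* Cfsg.PSU 6 F 2) ∧
        G₀.index * (512 * 25920) = Nat.card ↥(Subgroup.centralizer ({z} : Set G)) ∧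
        Subgroup.centralizer (G₀ : Set G) = ⊥ :=
  nat_main natCfg (cs_eq ▸ shapes_of_ok pts_mem shapes_ok) M hb ho hF

end Cfsg.Agent.U62Rec.NatI
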